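import Groth.Agent.Lib.CycAff.Killed
import Mathlib.AlgebraicGeometry.AffineSpace
import Mathlib.Algebra.MvPolynomial.Equiv
import Mathlib.RingTheory.Polynomial.Basic
import Mathlib.Algebra.Polynomial.FieldDivision

/-!
Affine spaces over a field are killed.
-/

set_option autoImplicit false
universe u

open CategoryTheory Limits AlgebraicGeometry GrothLib.CycFlat MvPolynomial

namespace GrothLib.CycAff

noncomputable def specIsoOfRingEquiv {R S : Type u} [CommRing R] [CommRing S] (e : R ≃+* S) :
    Spec (CommRingCat.of S) ≅ Spec (CommRingCat.of R) :=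
  Scheme.Spec.mapIso e.toCommRingCatIso.op

theorem killed_congr {R S : Type u} [CommRing R] [CommRing S] [IsNoetherianRing S] (e : R ≃+* S)
    (h : Killed (Spec (CommRingCat.of S))) : Killed (Spec (CommRingCat.of R)) :=
  Killed.of_iso (specIsoOfRingEquiv e) h

/-- The fibre of affine space is affine space over the residue field. -/
noncomputable def fiberIso (n : Type u) (S : Scheme.{u}) (y : S) :
    (𝔸(n; S) ↘ S).fiber y ≅ 𝔸(n; Spec (S.residueField y)) :=
  (AffineSpace.isPullback_map (n := n) (S.fromSpecResidueField y)).isoPullback.symm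

instance isIntegral_fiber (n : Type u) (S : Scheme.{u}) (y : S) : IsIntegral ((𝔸(n; S) ↘ S).fiber y) := by
  haveI : Nonempty ((𝔸(n; S) ↘ S).fiber y) := ⟨(fiberIso n S y).inv (genericPoint _)⟩
  exact isIntegral_of_isOpenImmersion (fiberIso n S y).hom

/-- Points of the affine line over a field other than the generic one are closed. -/
theorem line_eq_of_specializes {F : Scheme.{u}} [IsIntegral F] {R : Type u} [CommRing R] [IsDomain R]
    [IsPrincipalIdealRing R] (e : F ≅ Spec (CommRingCat.of R)) {a b : F} (hab : a ⤳ b)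
    (ha : a ≠ genericPoint F) : a = b := by
  have hne : (e.hom a).asIdeal ≠ ⊥ := fun h => by
    refine ha ?_
    have h1 : ∀ w, e.hom a ⤳ e.hom w := fun w => (PrimeSpectrum.le_iff_specializes _ _).1
      (show (e.hom a).asIdeal ≤ (e.hom w).asIdeal by rw [h]; exact bot_le)
    exact ((e.hom.isEmbedding.isInducing.specializes_iff.1 (h1 _)).antisymm (genericPoint_specializes a)).eq
  have hmax := Ideal.IsPrime.isMaximal (e.hom a).2 hne
  exact e.hom.isEmbedding.injective (PrimeSpectrum.ext (hmax.eq_of_le (e.hom b).2.ne_top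
    ((PrimeSpectrum.le_iff_specializes _ _).2 (hab.map e.hom.continuous))))

noncomputable def lineIso (K : Type u) [Field K] :
    𝔸(PUnit.{u + 1}; Spec (CommRingCat.of K)) ≅ Spec (CommRingCat.of (Polynomial K)) :=
  AffineSpace.SpecIso PUnit.{u + 1} (CommRingCat.of K) ≪≫
    specIsoOfRingEquiv (MvPolynomial.uniqueAlgEquiv K PUnit.{u + 1}).symm.toRingEquiv

instance isNoetherian_affineSpace (n : Type u) [Finite n] (R : Type u) [CommRing R] [IsNoetherianRing R] :
    IsNoetherian 𝔸(n; Spec (CommRingCat.of R)) := by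
  haveI : IsNoetherian (Spec (CommRingCat.of (MvPolynomial n R))) := inferInstance
  haveI : IsLocallyNoetherian 𝔸(n; Spec (CommRingCat.of R)) :=
    isLocallyNoetherian_of_isOpenImmersion (AffineSpace.SpecIso n (CommRingCat.of R)).hom
  exact {}

theorem isLocallyNoetherian_fiber (n : Type u) [Finite n] (S : Scheme.{u}) (y : S) :
    IsLocallyNoetherian ((𝔸(n; S) ↘ S).fiber y) :=
  haveI : IsLocallyNoetherian 𝔸(n; Spec (S.residueField y)) :=
    (isNoetherian_affineSpace n (S.residueField y)).toIsLocallyNoetherian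
  isLocallyNoetherian_of_isOpenImmersion (fiberIso n S y).hom

theorem killed_line (K : Type u) [Field K] : Killed 𝔸(PUnit.{u + 1}; Spec (CommRingCat.of K)) :=
  Killed.of_iso (lineIso K).symm (killed_spec_pid (Polynomial K))

theorem killed_polynomial (A : Type u) [CommRing A] [IsNoetherianRing A]
    (hA : Killed (Spec (CommRingCat.of A))) : Killed (Spec (CommRingCat.of (Polynomial A))) := by
  let S := Spec (CommRingCat.of A)
  let X := 𝔸(PUnit.{u + 1}; S)
  let p : X ⟶ S := X ↘ S
  haveI : Flat p := by
    have h : p = (AffineSpace.SpecIso PUnit.{u + 1} (CommRingCat.of A)).hom ≫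
        Spec.map (CommRingCat.ofHom MvPolynomial.C) := by
      rw [← AffineSpace.SpecIso_inv_over (n := PUnit.{u + 1}) (CommRingCat.of A), Iso.hom_inv_id_assoc]
    rw [h]
    haveI : Flat (Spec.map (CommRingCat.ofHom (MvPolynomial.C (σ := PUnit.{u + 1}) (R := A)))) :=
      Flat.SpecMap_iff.2 (RingHom.flat_algebraMap_iff.2 inferInstance)
    infer_instance
  haveI : ∀ y, IsIntegral (p.fiber y) := isIntegral_fiber PUnit.{u + 1} S
  haveI : ∀ y, IsLocallyNoetherian (p.fiber y) := isLocallyNoetherian_fiber PUnit.{u + 1} S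
  let s : S ⟶ X := AffineSpace.homOfVector (𝟙 S) 0
  have hs : s ≫ p = 𝟙 S := AffineSpace.homOfVector_over _ _
  haveI : IsClosedImmersion (s ≫ p) := by rw [hs]; infer_instance
  haveI : IsClosedImmersion s := IsClosedImmersion.of_comp s p
  have e := fun y : S => fiberIso PUnit.{u + 1} S y ≪≫ lineIso (S.residueField y)
  have hfib : ∀ y, Killed (p.fiber y) := fun y => by
    haveI := isNoetherian_affineSpace PUnit.{u + 1} (S.residueField y)
    exact Killed.of_iso (fiberIso PUnit.{u + 1} S y).symm (killed_line (S.residueField y))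
  have hcl : ∀ y, ∀ a b : p.fiber y, a ⤳ b → a ≠ genericPoint (p.fiber y) → a = b :=
    fun y a b hab ha => line_eq_of_specializes (e y) hab ha
  have hne : ∀ y, p.fiberι y (genericPoint (p.fiber y)) ≠ s y := by
    intro y hy
    have hsub : ∀ w : p.fiber y, w = genericPoint (p.fiber y) := fun w => by
      obtain ⟨v, hv⟩ : p.fiberι y w ∈ Set.range s := ((genericPoint_specializes w).map (p.fiberι y).continuous).mem_closed
        s.isClosedEmbedding.isClosed_range ⟨y, hy.symm⟩
      have h1 : v = y := by
        have := congrArg p hv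
        rwa [apply_fiberι, ← Scheme.Hom.comp_apply, hs] at this
      exact (p.fiberι y).isEmbedding.injective (by rw [← hv, h1, hy])
    haveI hm : (Ideal.span {(Polynomial.X : Polynomial (S.residueField y))}).IsPrime :=
      (Ideal.span_singleton_prime Polynomial.X_ne_zero).2 Polynomial.prime_X
    let q₀ : Spec (CommRingCat.of (Polynomial (S.residueField y))) := ⟨⊥, Ideal.isPrime_bot⟩
    let q₁ : Spec (CommRingCat.of (Polynomial (S.residueField y))) := ⟨Ideal.span {Polynomial.X}, hm⟩
    have h2 : (e y).inv q₀ = (e y).inv q₁ := (hsub _).trans (hsub _).symm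
    have h3 : (Ideal.span {(Polynomial.X : Polynomial (S.residueField y))}) = ⊥ :=
      congrArg PrimeSpectrum.asIdeal ((e y).inv.isEmbedding.injective h2).symm
    exact Polynomial.X_ne_zero (Ideal.span_singleton_eq_bot.1 h3)
  have hX : Killed X := killed_of_fibration p hfib hA s hs hcl hne
  exact Killed.of_iso (AffineSpace.SpecIso PUnit.{u + 1} (CommRingCat.of A) ≪≫
    specIsoOfRingEquiv (MvPolynomial.uniqueAlgEquiv A PUnit.{u + 1}).symm.toRingEquiv) hX

theorem killed_mvPolynomial (K : Type u) [Field K] : ∀ r : ℕ,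
    Killed (Spec (CommRingCat.of (MvPolynomial (Fin r) K)))
  | 0 => killed_congr (MvPolynomial.isEmptyAlgEquiv K (Fin 0)).toRingEquiv
      (@killed_of_subsingleton _ (inferInstanceAs (Subsingleton (PrimeSpectrum K))))
  | r + 1 => killed_congr (MvPolynomial.finSuccEquiv K r).toRingEquiv
      (killed_polynomial _ (killed_mvPolynomial K r))

theorem killed_affineSpace (K : Type u) [Field K] (r : ℕ) :
    Killed 𝔸(ULift.{u} (Fin r); Spec (CommRingCat.of K)) :=
  Killed.of_iso (AffineSpace.SpecIso (ULift.{u} (Fin r)) (CommRingCat.of K)).symm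
    (killed_congr (MvPolynomial.renameEquiv K Equiv.ulift).toRingEquiv (killed_mvPolynomial K r))

end GrothLib.CycAff
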