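import Groth.Agent.Lib.CycAff.Span
import Mathlib.RingTheory.PrincipalIdealDomain
import Mathlib.AlgebraicGeometry.AffineScheme

/-!
Affine lines and their iterates kill non-maximal points.
-/

set_option autoImplicit false
universe u

open CategoryTheory Limits AlgebraicGeometry GrothLib.CycFlat GrothLib.CycDiv TopologicalSpace

namespace GrothLib.CycAff

theorem killed_of_subsingleton (F : Scheme.{u}) [Subsingleton F] : Killed F :=
  fun _ _ _ ⟨_, _, hne⟩ => absurd (Subsingleton.elim _ _) hne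

/-- The spectrum of a principal ideal domain. -/
theorem killed_spec_pid (R : Type u) [CommRing R] [IsDomain R] [IsPrincipalIdealRing R] :
    Killed (Spec (CommRingCat.of R)) := by
  classical
  intro δ hδ x ⟨z, hz, hne⟩
  have hlt : z.asIdeal < x.asIdeal := lt_of_le_of_ne ((PrimeSpectrum.le_iff_specializes z x).2 hz)
    fun e => hne (PrimeSpectrum.ext e)
  have hxb : x.asIdeal ≠ ⊥ := fun e => not_lt_bot (e ▸ hlt)
  obtain ⟨g, hg⟩ : ∃ g : R, x.asIdeal = Ideal.span {g} :=
    ⟨Submodule.IsPrincipal.generator x.asIdeal, (Ideal.span_singleton_generator _).symm⟩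
  have hg0 : g ≠ 0 := by
    rintro rfl
    exact hxb (hg.trans Ideal.span_singleton_zero)
  let η : Spec (CommRingCat.of R) := ⟨⊥, Ideal.isPrime_bot⟩
  have hmax : ∀ q : Spec (CommRingCat.of R), q ≠ η → q.asIdeal.IsMaximal := fun q hq =>
    Ideal.IsPrime.isMaximal q.2 fun e => hq (PrimeSpectrum.ext e)
  have hgen : ∀ q : Spec (CommRingCat.of R), η ⤳ q := fun q => (PrimeSpectrum.le_iff_specializes η q).1 bot_le
  have hxη : x ≠ η := fun e => hxb (congrArg PrimeSpectrum.asIdeal e)
  have hd : ∀ q, q ≠ η → δ q + 1 = δ η := fun q hq => by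
    refine ((hδ η q (hgen q) hq.symm).2 fun w hw1 hw2 => ?_).symm
    by_cases hw : w = η
    · exact Or.inl hw
    · exact Or.inr (PrimeSpectrum.ext ((hmax w hw).eq_of_le q.2.ne_top
        ((PrimeSpectrum.le_iff_specializes w q).2 hw2)))
  let γ : Γ(Spec (CommRingCat.of R), ⊤) := (Scheme.ΓSpecIso (CommRingCat.of R)).inv g
  let gη : (Spec (CommRingCat.of R)).residueField η :=
    (Spec (CommRingCat.of R)).residue η ((Spec (CommRingCat.of R)).presheaf.germ ⊤ η trivial γ)
  have hunit : ∀ q : Spec (CommRingCat.of R), IsUnit ((Spec (CommRingCat.of R)).presheaf.germ ⊤ q trivial γ) ↔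
      g ∉ q.asIdeal := fun q => by
    rw [← (Spec (CommRingCat.of R)).mem_basicOpen' γ ⟨q, trivial⟩]
    show q ∈ (Spec (CommRingCat.of R)).basicOpen γ ↔ _
    rw [show (Spec (CommRingCat.of R)).basicOpen γ = PrimeSpectrum.basicOpen g from
      basicOpen_eq_of_affine (R := CommRingCat.of R) g]
    exact PrimeSpectrum.mem_basicOpen g q
  have hgη : gη ≠ 0 := fun e =>
    ((IsLocalRing.residue_eq_zero_iff _).1 e) ((hunit η).2 (fun hc => hg0 (Ideal.mem_bot.1 hc)))
  have hspec : ∀ q, gη = Cyc.specMap q η (hgen q) ((Spec (CommRingCat.of R)).presheaf.germ ⊤ q trivial γ) := fun q => by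
    show _ = (Spec (CommRingCat.of R)).residue η _
    refine congrArg ((Spec (CommRingCat.of R)).residue η).hom ?_
    exact (congr($((Spec (CommRingCat.of R)).presheaf.germ_stalkSpecializes (U := ⊤) trivial (hgen q)).hom γ)).symm
  have heq : pt x = Cyc.divFun δ η gη := by
    funext q
    by_cases hq : q = η
    · subst hq
      rw [pt_ne hxη.symm, Cyc.divFun, dif_neg (fun h => by omega)]
    rw [Cyc.divFun, dif_pos ⟨hgen q, hd q hq⟩]
    by_cases hqx : q = x
    · subst hqx
      rw [pt_self, hspec q]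
      refine (ordAt_eq_one hδ (hgen q) (hd q hq) ?_).symm
      letI : Algebra Γ(Spec (CommRingCat.of R), ⊤) ((Spec (CommRingCat.of R)).presheaf.stalk q) :=
        ((Spec (CommRingCat.of R)).presheaf.germ ⊤ q trivial).hom.toAlgebra
      have hA : IsAffineOpen (⊤ : (Spec (CommRingCat.of R)).Opens) := isAffineOpen_top _
      haveI := hA.isLocalization_stalk ⟨q, trivial⟩
      rw [← IsLocalization.AtPrime.map_eq_maximalIdeal (hA.primeIdealOf ⟨q, trivial⟩).asIdeal
        ((Spec (CommRingCat.of R)).presheaf.stalk q)]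
      let e : Γ(Spec (CommRingCat.of R), ⊤) ≃+* R :=
        (Scheme.ΓSpecIso (CommRingCat.of R)).commRingCatIsoToRingEquiv
      have hp : (hA.primeIdealOf ⟨q, trivial⟩).asIdeal = Ideal.span {γ} := by
        ext a
        have h1 : a ∈ (hA.primeIdealOf ⟨q, trivial⟩).asIdeal ↔ ¬ IsUnit
            ((Spec (CommRingCat.of R)).presheaf.germ ⊤ q trivial a) :=
          ⟨fun ha hu => (IsLocalization.AtPrime.isUnit_to_map_iff ((Spec (CommRingCat.of R)).presheaf.stalk q)
            (hA.primeIdealOf ⟨q, trivial⟩).asIdeal a).1 hu ha,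
          fun hu => by_contra fun ha => hu ((IsLocalization.AtPrime.isUnit_to_map_iff
            ((Spec (CommRingCat.of R)).presheaf.stalk q) (hA.primeIdealOf ⟨q, trivial⟩).asIdeal a).2 ha)⟩
        rw [h1, ← (Spec (CommRingCat.of R)).mem_basicOpen' a ⟨q, trivial⟩]
        obtain ⟨r, rfl⟩ : ∃ r, (Scheme.ΓSpecIso (CommRingCat.of R)).inv r = a :=
          ⟨e a, e.symm_apply_apply a⟩
        show q ∉ (Spec (CommRingCat.of R)).basicOpen _ ↔ _
        rw [show (Spec (CommRingCat.of R)).basicOpen ((Scheme.ΓSpecIso (CommRingCat.of R)).inv r) =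
          PrimeSpectrum.basicOpen r from basicOpen_eq_of_affine (R := CommRingCat.of R) r]
        show ¬ ¬ (r ∈ q.asIdeal) ↔ _
        rw [not_not, hg, Ideal.mem_span_singleton, Ideal.mem_span_singleton]
        exact (map_dvd_iff e.symm).symm
      rw [hp, Ideal.map_span, Set.image_singleton]
      rfl
    · rw [pt_ne hqx]
      refine (ordAt_eq_zero_of_isUnit hδ (hgen q) (hd q hq) ((hunit q).2 fun hc => hqx ?_) (hspec q)).symm
      exact PrimeSpectrum.ext (((hmax x hxη).eq_of_le q.2.ne_top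
        (hg ▸ Ideal.span_le.2 (Set.singleton_subset_iff.2 hc))).symm)
  rw [heq]
  exact AddSubgroup.subset_closure ⟨η, gη, (hd x hxη).symm, hgη, rfl⟩

theorem finsum_mem_addSubgroup {ι M : Type*} [AddCommGroup M] (H : AddSubgroup M) (f : ι → M) (h : ∀ i, f i ∈ H) :
    ∑ᶠ i, f i ∈ H := by
  exact finsum_induction (fun z => z ∈ H) H.zero_mem (fun _ _ => H.add_mem) h

variable {X Y : Scheme.{u}}

/-- A fibration in lines over a killed base is killed. -/
theorem killed_of_fibration (p : X ⟶ Y) [Flat p] [IsNoetherian X] [IsNoetherian Y]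
    [∀ y, IsIntegral (p.fiber y)] [∀ y, IsLocallyNoetherian (p.fiber y)] (hfib : ∀ y, Killed (p.fiber y))
    (hY : Killed Y) (s : Y ⟶ X) [IsClosedImmersion s] (hs : s ≫ p = 𝟙 Y)
    (hcl : ∀ y, ∀ a b : p.fiber y, a ⤳ b → a ≠ genericPoint (p.fiber y) → a = b)
    (hne : ∀ y, p.fiberι y (genericPoint (p.fiber y)) ≠ s y) : Killed X := by
  classical
  intro δ hδ
  let δ' : Y → ℤ := δ ∘ s
  have hδ' : Cyc.IsDimFun Y δ' := GrothLib.CycPush.isDimFun_closedImmersion s hδ
  have hps : ∀ y, p (s y) = y := fun y => by rw [← Scheme.Hom.comp_apply, hs]; rfl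
  have hshift : ∀ x, MaxFib p x → δ x = δ' (p x) + 1 := by
    intro x hx
    rw [maxFib_iff_generic p rfl] at hx
    obtain ⟨z, hz⟩ : s (p x) ∈ Set.range (p.fiberι (p x)) := by rw [p.range_fiberι]; exact hps _
    have hd := isDimFun_fiber p hδ (p x)
    have hzne : genericPoint (p.fiber (p x)) ≠ z := fun e => hne (p x) (e ▸ hz)
    have h1 : δ (p.fiberι (p x) (genericPoint (p.fiber (p x)))) = δ (p.fiberι (p x) z) + 1 :=
      (hd _ z (genericPoint_specializes z) hzne).2 fun w _ hwz => by
        by_cases hw : w = genericPoint (p.fiber (p x))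
        · exact Or.inl hw
        · exact Or.inr (hcl _ w z hwz hw)
    rw [← hx, hz] at h1
    exact h1
  have hkey := fun x => eq_add_iff_maxFib p hδ hshift x
  suffices h : ∀ C : Closeds Y, ∀ x, closure {p x} = (C : Set Y) → (∃ z, z ⤳ x ∧ z ≠ x) →
      pt x ∈ Span δ (δ x) from fun x hx => h ⟨_, isClosed_closure⟩ x rfl hx
  intro C
  induction C using WellFoundedLT.induction with
  | ind C IH =>
  intro x hC ⟨z, hz, hzne⟩
  by_cases hm : MaxFib p x
  · -- the pullback of a killed point of the base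
    have hy : ∃ w, w ⤳ p x ∧ w ≠ p x :=
      ⟨p z, hz.map p.continuous, fun e => hzne (hm z e hz)⟩
    obtain ⟨ι, _, η, g, h1, h2, h3⟩ := exists_list hδ' (hY δ' hδ' (p x) hy)
    have hpull : pt x = fun w => ∑ i, ∑ᶠ ξ : {ξ : X // MaxFib p ξ ∧ p ξ = η i},
        ((fibLength p ξ.1).toNat : ℤ) * Cyc.divFun δ ξ.1 (pullVal p (g i) ξ.1 ξ.2.2) w := by
      funext w
      simp_rw [← pullFun_divFun p hδ hδ' hshift _ _ (h2 _) w, pullFun_apply]
      by_cases hw : MaxFib p w
      · simp only [(hkey w).1.2 hw, if_true, ← Finset.sum_mul, ← h3]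
        have hlen : fibLength p w = 1 :=
          fibLength_fiber_generic p (p w) ((maxFib_iff_generic p rfl).1 hw).symm
        rw [hlen]
        have e : w = x ↔ p w = p x := ⟨congrArg p, fun e => by
          rw [(maxFib_iff_generic p rfl).1 hw, (maxFib_iff_generic p e.symm).1 hm]⟩
        simp [pt, e]
      · simp only [show ¬ δ w = δ' (p w) + 1 from fun e => hw ((hkey w).1.1 e), if_false, Finset.sum_const_zero]
        exact pt_ne fun e => hw (e ▸ hm)
    rw [hpull, show (fun w => ∑ i, ∑ᶠ ξ : {ξ : X // MaxFib p ξ ∧ p ξ = η i},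
        ((fibLength p ξ.1).toNat : ℤ) * Cyc.divFun δ ξ.1 (pullVal p (g i) ξ.1 ξ.2.2) w) =
        ∑ i, ∑ᶠ ξ : {ξ : X // MaxFib p ξ ∧ p ξ = η i},
          ((fibLength p ξ.1).toNat : ℤ) • Cyc.divFun δ ξ.1 (pullVal p (g i) ξ.1 ξ.2.2) from funext fun w => by
      rw [Finset.sum_apply]
      refine Finset.sum_congr rfl fun i _ => ?_
      haveI : Finite {ξ : X // MaxFib p ξ ∧ p ξ = η i} :=
        ((GrothLib.CycLimit.finite_maxFib p (η i)).subset fun ξ hξ => ⟨hξ.2, hξ.1⟩).to_subtype
      letI := Fintype.ofFinite {ξ : X // MaxFib p ξ ∧ p ξ = η i}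
      rw [finsum_eq_sum_of_fintype, finsum_eq_sum_of_fintype, Finset.sum_apply]
      simp]
    refine AddSubgroup.sum_mem _ fun i _ => finsum_mem_addSubgroup _ _ fun ξ => ?_
    refine AddSubgroup.zsmul_mem _ (AddSubgroup.subset_closure ?_) _
    refine ⟨ξ.1, pullVal p (g i) ξ.1 ξ.2.2, ?_, ?_, rfl⟩
    · rw [hshift _ ξ.2.1, ξ.2.2, h1, hshift x hm]
    · exact (map_ne_zero_iff _ (p.residueFieldMap ξ.1).hom.injective).2
        ((map_ne_zero_iff _ (Y.residueFieldCongr ξ.2.2.symm).hom.hom.injective).2 (h2 i))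
  · -- killed inside the fibre, up to points over proper specialisations
    obtain ⟨ι, _, ξ, g, h1, h2, h3, h4⟩ := exists_fibre_list p hδ (hfib (p x)) hm 1
    let a : X → ℤ := fun w => ∑ i, Cyc.divFun δ (ξ i) (g i) w
    have ha : a ∈ Span δ (δ x) := sum_mem Finset.univ ξ g h1 h2
    have hfin : {w | a w ≠ 0}.Finite :=
      ((Set.finite_univ (α := ι)).biUnion fun i _ => finite_support_divFun hδ (ξ i) (h2 i)).subset
        fun w hw => by
          obtain ⟨i, hi, hne'⟩ := Finset.exists_ne_zero_of_sum_ne_zero (show _ ≠ (0 : ℤ) from hw)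
          exact Set.mem_biUnion (Set.mem_univ i) hne'
    have hterm : ∀ w, a w - pt x w ≠ 0 → pt w ∈ Span δ (δ x) := by
      intro w hw
      have hpw : p w ≠ p x := fun e => hw (by rw [show a w = _ from h4 w e, one_mul, sub_self])
      have hwx : w ≠ x := fun e => hpw (congrArg p e)
      rw [pt_ne hwx, sub_zero] at hw
      obtain ⟨i, -, hi⟩ := Finset.exists_ne_zero_of_sum_ne_zero (show _ ≠ (0 : ℤ) from hw)
      have hh : ξ i ⤳ w ∧ δ w + 1 = δ (ξ i) := by
        by_contra hc
        rw [Cyc.divFun, dif_neg hc] at hi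
        exact hi rfl
      have hsp : p x ⤳ p w := h3 i ▸ hh.1.map p.continuous
      have hlt : (⟨closure {p w}, isClosed_closure⟩ : Closeds Y) < C := by
        refine lt_of_le_of_ne (show closure {p w} ⊆ (C : Set Y) from hC ▸ hsp.closure_subset) fun e => hpw ?_
        have e' : closure {p w} = closure {p x} := (congrArg SetLike.coe e).trans hC.symm
        exact ((specializes_iff_closure_subset.2 e'.ge).antisymm hsp).eq
      have := IH _ hlt w rfl ⟨ξ i, hh.1, fun e => hpw (by rw [← e, h3 i])⟩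
      rwa [show δ w = δ x from by have := h1 i; omega] at this
    have hfin' : {w | a w - pt x w ≠ 0}.Finite :=
      (hfin.union (Set.finite_singleton x)).subset fun w hw => by
        by_cases hwx : w = x
        · exact Or.inr hwx
        · left
          intro h
          exact hw (by rw [h, pt_ne hwx, sub_zero])
    have hrest : a - pt x ∈ Span δ (δ x) := by
      rw [show a - pt x = ∑ w ∈ hfin'.toFinset, (a w - pt x w) • pt w from funext fun v => by
        rw [Finset.sum_apply]
        simp only [Pi.smul_apply, smul_eq_mul, pt, mul_ite, mul_one, mul_zero, Finset.sum_ite_eq,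
          Set.Finite.mem_toFinset, Pi.sub_apply]
        split_ifs <;> simp_all]
      exact AddSubgroup.sum_mem _ fun w hw => AddSubgroup.zsmul_mem _ (hterm w (hfin'.mem_toFinset.1 hw)) _
    have := (Span δ (δ x)).sub_mem ha hrest
    rwa [sub_sub_cancel] at this

end GrothLib.CycAff
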