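import Groth.Agent.Lib.CycPush.Family
import Groth.Agent.Lib.FibreFlat.Stalk
import Groth.Agent.Lib.CycFlat.Length
import Groth.Agent.Lib.CycDiv.RatEquiv

/-!
Finite sums of principal divisors, and schemes all of whose non-maximal points are such sums.
-/

set_option autoImplicit false
universe u

open CategoryTheory Limits AlgebraicGeometry GrothLib.CycFlat GrothLib.CycDiv

namespace GrothLib.CycAff

variable {X Y F : Scheme.{u}}

open Classical in
/-- The prime cycle of a point, as a function. -/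
noncomputable def pt (x : X) : X → ℤ := fun z => if z = x then 1 else 0

theorem pt_self (x : X) : pt x x = 1 := if_pos rfl

theorem pt_ne {x z : X} (h : z ≠ x) : pt x z = 0 := if_neg h

/-- Finite sums of principal divisors of `(m + 1)`-dimensional points. -/
def Span (δ : X → ℤ) (m : ℤ) : AddSubgroup (X → ℤ) :=
  AddSubgroup.closure {a | ∃ (ξ : X) (g : X.residueField ξ), δ ξ = m + 1 ∧ g ≠ 0 ∧ a = Cyc.divFun δ ξ g}

theorem exists_list [IsLocallyNoetherian X] {δ : X → ℤ} (hδ : Cyc.IsDimFun X δ) {m : ℤ} {a : X → ℤ}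
    (ha : a ∈ Span δ m) : ∃ (ι : Type u) (_ : Fintype ι) (ξ : ι → X) (g : (i : ι) → X.residueField (ξ i)),
      (∀ i, δ (ξ i) = m + 1) ∧ (∀ i, g i ≠ 0) ∧ ∀ z, a z = ∑ i, Cyc.divFun δ (ξ i) (g i) z := by
  induction ha using AddSubgroup.closure_induction with
  | mem a ha =>
    obtain ⟨ξ, g, h1, h2, rfl⟩ := ha
    exact ⟨PUnit, inferInstance, fun _ => ξ, fun _ => g, fun _ => h1, fun _ => h2, fun z => by simp⟩
  | zero => exact ⟨PEmpty, inferInstance, PEmpty.elim, (·.elim), (·.elim), (·.elim), fun z => by simp⟩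
  | add a b _ _ iha ihb =>
    obtain ⟨ι, _, ξ, g, h1, h2, h3⟩ := iha
    obtain ⟨κ, _, ξ', g', h1', h2', h3'⟩ := ihb
    refine ⟨ι ⊕ κ, inferInstance, Sum.elim ξ ξ', fun i => match i with | .inl i => g i | .inr i => g' i,
      fun i => ?_, fun i => ?_, fun z => ?_⟩
    · cases i <;> simp [h1, h1']
    · cases i
      · exact h2 _
      · exact h2' _
    · rw [Pi.add_apply, h3, h3', Fintype.sum_sum_type]
      rfl
  | neg a _ iha =>
    obtain ⟨ι, _, ξ, g, h1, h2, h3⟩ := iha
    refine ⟨ι, inferInstance, ξ, fun i => (g i)⁻¹, h1, fun i => inv_ne_zero (h2 i), fun z => ?_⟩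
    rw [Pi.neg_apply, h3, ← Finset.sum_neg_distrib]
    exact Finset.sum_congr rfl fun i _ => (GrothLib.CycPush.divFun_inv hδ _ (h2 i) z).symm

theorem sum_mem {δ : X → ℤ} {m : ℤ} {ι : Type*} (s : Finset ι) (ξ : ι → X) (g : (i : ι) → X.residueField (ξ i))
    (h1 : ∀ i, δ (ξ i) = m + 1) (h2 : ∀ i, g i ≠ 0) :
    (fun z => ∑ i ∈ s, Cyc.divFun δ (ξ i) (g i) z) ∈ Span δ m := by
  rw [show (fun z => ∑ i ∈ s, Cyc.divFun δ (ξ i) (g i) z) = ∑ i ∈ s, Cyc.divFun δ (ξ i) (g i) from
    funext fun z => (Finset.sum_apply z s _).symm]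
  exact AddSubgroup.sum_mem _ fun i _ => AddSubgroup.subset_closure ⟨ξ i, g i, h1 i, h2 i, rfl⟩

/-- A finite sum of divisors on a preimmersed scheme comes from one on the ambient scheme. -/
theorem exists_push [IsLocallyNoetherian X] [IsLocallyNoetherian F] (j : F ⟶ X) [IsPreimmersion j]
    {δ : X → ℤ} (hδ : Cyc.IsDimFun X δ) (hF : Cyc.IsDimFun F (δ ∘ j)) {m : ℤ} {a : F → ℤ}
    (ha : a ∈ Span (δ ∘ j) m) :
    ∃ (ι : Type u) (_ : Fintype ι) (ξ : ι → X) (g : (i : ι) → X.residueField (ξ i)),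
      (∀ i, δ (ξ i) = m + 1) ∧ (∀ i, g i ≠ 0) ∧ (∀ i, ξ i ∈ Set.range j) ∧
        ∀ z, (∑ i, Cyc.divFun δ (ξ i) (g i) (j z)) = a z := by
  obtain ⟨ι, _, ξ, g, h1, h2, h3⟩ := exists_list hF ha
  refine ⟨ι, inferInstance, fun i => j (ξ i), fun i => GrothLib.CycPush.resInv j (ξ i) (g i), h1,
    fun i => GrothLib.CycPush.resInv_ne_zero j (h2 i), fun i => ⟨ξ i, rfl⟩, fun z => ?_⟩
  rw [h3]
  exact Finset.sum_congr rfl fun i _ => GrothLib.CycPush.divFun_push j hδ hF (ξ i) z (h2 i)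

/-- Every non-maximal point is a finite sum of principal divisors. -/
def Killed (F : Scheme.{u}) : Prop :=
  ∀ δ : F → ℤ, Cyc.IsDimFun F δ → ∀ x : F, (∃ z, z ⤳ x ∧ z ≠ x) → pt x ∈ Span δ (δ x)

theorem Killed.of_iso [IsLocallyNoetherian F] (e : F ≅ X) (h : Killed F) : Killed X := by
  haveI : IsLocallyNoetherian X := isLocallyNoetherian_of_isOpenImmersion e.inv
  intro δ hδ x ⟨z, hz, hne⟩
  have hb := e.hom.homeomorph
  obtain ⟨x, rfl⟩ := e.hom.homeomorph.surjective x
  obtain ⟨z, rfl⟩ := e.hom.homeomorph.surjective z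
  have hF : Cyc.IsDimFun F (δ ∘ e.hom) := GrothLib.CycPush.isDimFun_comp e.hom hδ fun _ _ w _ _ =>
    e.hom.homeomorph.surjective w
  have h1 : pt x ∈ Span (δ ∘ e.hom) ((δ ∘ e.hom) x) :=
    h (δ ∘ e.hom) hF x ⟨z, e.hom.isEmbedding.isInducing.specializes_iff.1 hz, fun e' => hne (e' ▸ rfl)⟩
  obtain ⟨ι, _, ξ, g, k1, k2, -, k4⟩ := exists_push e.hom hδ hF h1
  have h2 := sum_mem Finset.univ ξ g k1 k2
  have heq : pt (e.hom x) = fun z => ∑ i, Cyc.divFun δ (ξ i) (g i) z := funext fun w => by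
    obtain ⟨w, rfl⟩ := e.hom.homeomorph.surjective w
    show pt (e.hom x) (e.hom w) = ∑ i, Cyc.divFun δ (ξ i) (g i) (e.hom w)
    rw [k4]
    unfold pt
    classical exact if_congr e.hom.isEmbedding.injective.eq_iff rfl rfl
  show pt (e.hom x) ∈ Span δ (δ (e.hom x))
  rw [heq]
  exact h2

/-- A unit rational function has trivial divisor; a uniformiser has order one. -/
theorem ordAt_eq_one [IsLocallyNoetherian X] {δ : X → ℤ} (hδ : Cyc.IsDimFun X δ) {x ξ : X} (h : ξ ⤳ x)
    (hd : δ x + 1 = δ ξ) {a : X.presheaf.stalk x}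
    (ha : IsLocalRing.maximalIdeal (X.presheaf.stalk x) = Ideal.span {a}) :
    Cyc.ordAt x ξ h (Cyc.specMap x ξ h a) = 1 := by
  have ha' : a ∉ primeOf h := fun hc => by
    have h1 : primeOf h = IsLocalRing.maximalIdeal (X.presheaf.stalk x) :=
      le_antisymm (IsLocalRing.le_maximalIdeal (inferInstance : (primeOf h).IsPrime).ne_top)
        (ha ▸ Ideal.span_le.2 (Set.singleton_subset_iff.2 hc))
    have h2 := fromSpecStalk_primeOf h
    simp only [h1] at h2
    rw [show (⟨IsLocalRing.maximalIdeal _, _⟩ : PrimeSpectrum (X.presheaf.stalk x)) =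
      IsLocalRing.closedPoint _ from rfl, Scheme.fromSpecStalk_closedPoint] at h2
    rw [h2] at hd
    omega
  have hone : (1 : X.presheaf.stalk x) ∉ primeOf h :=
    fun hc => (inferInstance : (primeOf h).IsPrime).ne_top ((Ideal.eq_top_iff_one _).2 hc)
  rw [ordAt_eq_sub hδ h hd ha' hone (by rw [map_one, mul_one]), Ring.ord_of_isUnit (isUnit_one.map _)]
  let f : X.presheaf.stalk x →+* Cyc.LocQuot x ξ h := Ideal.Quotient.mk _
  have hf : Function.Surjective f := Ideal.Quotient.mk_surjective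
  haveI : IsLocalRing (Cyc.LocQuot x ξ h) := .of_surjective' f hf
  haveI : IsLocalHom f := .of_surjective f hf
  have hspan : Ideal.span {f a} = IsLocalRing.maximalIdeal (Cyc.LocQuot x ξ h) := by
    rw [← Set.image_singleton, ← Ideal.map_span, ← ha]
    exact IsLocalRing.map_maximalIdeal_of_surjective f hf
  haveI : IsSimpleModule (Cyc.LocQuot x ξ h) (Cyc.LocQuot x ξ h ⧸ IsLocalRing.maximalIdeal (Cyc.LocQuot x ξ h)) :=
    isSimpleModule_iff_isCoatom.2 (IsLocalRing.maximalIdeal.isMaximal _).out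
  unfold Ring.ord
  rw [show Ideal.span {(Ideal.Quotient.mk (primeOf h)) a} = IsLocalRing.maximalIdeal _ from hspan,
    Module.length_eq_one]
  rfl

/-- The fibre length at the generic point of an integral fibre is one. -/
theorem fibLength_fiber_generic (f : X ⟶ Y) (y : Y) [IsIntegral (f.fiber y)] {x : X}
    (hx : f.fiberι y (genericPoint (f.fiber y)) = x) : fibLength f x = 1 := by
  obtain ⟨hs, hk⟩ := GrothLib.FibreFlat.fiberι_stalkMap' f y (genericPoint (f.fiber y)) x hx
  rw [fibLength, ← hk]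
  let Φ := ((X.presheaf.stalkCongr (.of_eq hx.symm)).hom ≫ (f.fiberι y).stalkMap (genericPoint (f.fiber y))).hom
  letI := Φ.toAlgebra
  refine ((Ideal.quotientKerAlgEquivOfSurjective (f := Algebra.ofId (X.presheaf.stalk x)
    ((f.fiber y).presheaf.stalk (genericPoint (f.fiber y)))) hs).toLinearEquiv.length_eq).trans ?_
  rw [Module.length_eq_of_surjective (M := (f.fiber y).presheaf.stalk (genericPoint (f.fiber y))) hs]
  haveI : IsSimpleModule (f.fiber y).functionField (f.fiber y).functionField := inferInstance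
  exact Module.length_eq_one (R := (f.fiber y).functionField) (M := (f.fiber y).functionField)

theorem maxFib_iff_generic (f : X ⟶ Y) {y : Y} [IsIntegral (f.fiber y)] {x : X} (hx : f x = y) :
    MaxFib f x ↔ x = f.fiberι y (genericPoint (f.fiber y)) := by
  obtain ⟨z, rfl⟩ : x ∈ Set.range (f.fiberι y) := by rw [f.range_fiberι]; exact hx
  rw [maxFib_fiberι_iff]
  refine ⟨fun h => by rw [← h _ (genericPoint_specializes z)], fun h w hw => ?_⟩
  rw [(f.fiberι y).isEmbedding.injective h] at hw ⊢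
  exact (hw.antisymm (genericPoint_specializes w)).eq

theorem isDimFun_fiber (f : X ⟶ Y) {δ : X → ℤ} (hδ : Cyc.IsDimFun X δ) (y : Y) :
    Cyc.IsDimFun (f.fiber y) (δ ∘ f.fiberι y) :=
  GrothLib.CycPush.isDimFun_comp (f.fiberι y) hδ fun a b z ha hb => by
    rw [f.range_fiberι]
    have h1 := ha.map f.continuous
    have h2 := hb.map f.continuous
    rw [apply_fiberι] at h1 h2
    exact (h2.antisymm h1).eq

/-- A point which is not generic in its fibre is killed up to points over specialisations. -/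
theorem exists_fibre_list [IsLocallyNoetherian X] (f : X ⟶ Y) {δ : X → ℤ} (hδ : Cyc.IsDimFun X δ)
    {x : X} [IsLocallyNoetherian (f.fiber (f x))] (hF : Killed (f.fiber (f x))) (hx : ¬ MaxFib f x) (c : ℤ) :
    ∃ (ι : Type u) (_ : Fintype ι) (ξ : ι → X) (g : (i : ι) → X.residueField (ξ i)),
      (∀ i, δ (ξ i) = δ x + 1) ∧ (∀ i, g i ≠ 0) ∧ (∀ i, f (ξ i) = f x) ∧
        ∀ z, f z = f x → (∑ i, Cyc.divFun δ (ξ i) (g i) z) = c * pt x z := by
  have hd := isDimFun_fiber f hδ (f x)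
  have hm : ∃ w, w ⤳ f.asFiber x ∧ w ≠ f.asFiber x := by
    rw [maxFib_asFiber_iff] at hx
    push Not at hx
    exact hx
  have h1 := hF _ hd _ hm
  rw [show (δ ∘ f.fiberι (f x)) (f.asFiber x) = δ x from congrArg δ (f.fiberι_asFiber x)] at h1
  have h2 := AddSubgroup.zsmul_mem _ h1 c
  obtain ⟨ι, _, ξ, g, k1, k2, k3, k4⟩ := exists_push (f.fiberι (f x)) hδ hd h2
  refine ⟨ι, inferInstance, ξ, g, k1, k2, fun i => ?_, fun z hz => ?_⟩
  · have := k3 i
    rw [f.range_fiberι] at this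
    exact this
  · obtain ⟨w, rfl⟩ : z ∈ Set.range (f.fiberι (f x)) := by rw [f.range_fiberι]; exact hz
    rw [k4, Pi.smul_apply, smul_eq_mul]
    congr 1
    have e : f.fiberι (f x) w = x ↔ w = f.asFiber x :=
      ⟨fun h => (f.fiberι (f x)).isEmbedding.injective (h.trans (f.fiberι_asFiber x).symm),
        fun h => by rw [h, f.fiberι_asFiber]⟩
    unfold pt
    split_ifs <;> first | rfl | (rename_i a b; exact absurd (e.1 b) a) | (rename_i a b; exact absurd (e.2 a) b)

end GrothLib.CycAff
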